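import Groth.Agent.GUConn.Main
import Groth.Agent.GrpField.FlatPoint

/-!
Complements of closed sets missing the generic points over a geometrically unibranch base.
-/

set_option autoImplicit false
set_option linter.style.haveILetI false

universe u

open CategoryTheory CategoryTheory.Limits AlgebraicGeometry TopologicalSpace Topology

namespace Groth.Agent.GUConn

/-- A point in the closure of an open set of a locally Noetherian scheme is a specialisation of a point of the set. -/
theorem exists_specializes_of_mem_closure {X : Scheme.{u}} [IsLocallyNoetherian X] {U : Set X} (hU : IsOpen U)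
    {x : X} (hx : x ∈ closure U) : ∃ u ∈ U, u ⤳ x := by
  obtain ⟨_, ⟨V, hV, rfl⟩, hxV, -⟩ := X.isBasis_affineOpens.exists_subset_of_mem_open (Set.mem_univ x) isOpen_univ
  haveI : IsNoetherianRing Γ(X, V) := IsLocallyNoetherian.component_noetherian ⟨V, hV⟩
  haveI : NoetherianSpace V := (noetherianSpace_of_isAffineOpen V hV)
  haveI : QuasiSober V := inferInstanceAs (QuasiSober (V : Scheme.{u}))
  let W : Set V := Subtype.val ⁻¹' U
  have hW : IsOpen W := hU.preimage continuous_subtype_val
  have hxW : (⟨x, hxV⟩ : V) ∈ closure W :=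
    (V.isOpen.isOpenMap_subtype_val.preimage_closure_eq_closure_preimage continuous_subtype_val U).subset hx
  haveI : NoetherianSpace W := NoetherianSpace.set W
  have hcov : W ⊆ ⋃ Z ∈ irreducibleComponents W, closure (Subtype.val '' Z) := fun w hw =>
    Set.mem_iUnion₂.mpr ⟨irreducibleComponent (⟨w, hw⟩ : W), irreducibleComponent_mem_irreducibleComponents _,
      subset_closure ⟨⟨w, hw⟩, mem_irreducibleComponent, rfl⟩⟩
  have h2 : IsClosed (⋃ Z ∈ irreducibleComponents W, closure (Subtype.val '' Z)) :=
    (NoetherianSpace.finite_irreducibleComponents (α := W)).isClosed_biUnion fun _ _ => isClosed_closure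
  obtain ⟨Z, hZ, hxZ⟩ := Set.mem_iUnion₂.mp (closure_minimal hcov h2 hxW)
  have hirr := hZ.1.image Subtype.val continuous_subtype_val.continuousOn
  have hη := hirr.isGenericPoint_genericPoint_closure
  obtain ⟨w, hw⟩ := hirr.nonempty
  have hwW : w ∈ W := by obtain ⟨w, -, rfl⟩ := hw; exact w.2
  refine ⟨_, (hη.specializes (subset_closure hw)).mem_open hW hwW, ?_⟩
  exact (hη.specializes hxZ).map continuous_subtype_val

/-- A flat preimmersion into a reduced scheme has reduced source. -/
theorem isReduced_of_flat_preimmersion {P Q : Scheme.{u}} (g : Q ⟶ P) [Flat g] [IsPreimmersion g]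
    [AlgebraicGeometry.IsReduced P] : AlgebraicGeometry.IsReduced Q := by
  refine @isReduced_of_isReduced_stalk Q fun q => ?_
  have hs := g.stalkMap_surjective q
  letI := (g.stalkMap q).hom.toAlgebra
  haveI : Module.Flat (P.presheaf.stalk (g q)) (Q.presheaf.stalk q) := Flat.stalkMap g q
  haveI : IsLocalHom (algebraMap (P.presheaf.stalk (g q)) (Q.presheaf.stalk q)) := inferInstanceAs (IsLocalHom (g.stalkMap q).hom)
  haveI : Module.FaithfullyFlat (P.presheaf.stalk (g q)) (Q.presheaf.stalk q) :=
    Module.FaithfullyFlat.of_flat_of_isLocalHom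
  let e := RingEquiv.ofBijective (g.stalkMap q).hom ⟨FaithfulSMul.algebraMap_injective _ _, hs⟩
  exact isReduced_of_injective e.symm.toRingHom e.symm.injective

/-- Stalk maps of morphisms with geometrically reduced fibres. -/
theorem geometricallyReduced_stalkMap {X Y : Scheme.{u}} (f : X ⟶ Y) [GeometricallyReduced f] (x : X) :
    GeometricallyReduced (Spec.map (f.stalkMap x)) := by
  let g : Spec (X.presheaf.stalk x) ⟶ pullback f (Y.fromSpecStalk (f x)) :=
    pullback.lift (X.fromSpecStalk x) (Spec.map (f.stalkMap x)) (Scheme.SpecMap_stalkMap_fromSpecStalk f).symm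
  let s := pullback.snd f (Y.fromSpecStalk (f x))
  let p := pullback.fst f (Y.fromSpecStalk (f x))
  haveI : IsPreimmersion (g ≫ p) := by
    rw [show g ≫ p = X.fromSpecStalk x from pullback.lift_fst _ _ _]; infer_instance
  haveI : Flat (g ≫ p) := by
    rw [show g ≫ p = X.fromSpecStalk x from pullback.lift_fst _ _ _]; exact GrpField.flat_fromSpecStalk x
  haveI : IsPreimmersion p := MorphismProperty.pullback_fst f _ inferInstance
  haveI : IsPreimmersion g := IsPreimmersion.of_comp g p
  have hsq : IsPullback g (𝟙 _) p (g ≫ p) := by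
    simpa using ((IsPullback.of_id_fst (f := g)).paste_vert (IsKernelPair.id_of_mono p)).flip
  haveI : Flat g := MorphismProperty.of_isPullback (P := @Flat) hsq.flip inferInstance
  have hgs : g ≫ s = Spec.map (f.stalkMap x) := pullback.lift_snd _ _ _
  refine ⟨?_⟩
  intro K _ v Q q₁ q₂ hQ
  rw [← hgs] at hQ
  let h : Q ⟶ pullback s v := pullback.lift (q₁ ≫ g) q₂ (by rw [Category.assoc]; exact hQ.w)
  have hh : IsPullback q₁ h g (pullback.fst s v) := by
    refine IsPullback.of_bot ?_ (pullback.lift_fst _ _ _).symm (IsPullback.of_hasPullback s v)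
    rw [show h ≫ pullback.snd s v = q₂ from pullback.lift_snd _ _ _]
    exact hQ
  haveI : Flat h := MorphismProperty.of_isPullback (P := @Flat) hh inferInstance
  haveI : IsPreimmersion h := MorphismProperty.of_isPullback (P := @IsPreimmersion) hh inferInstance
  haveI : AlgebraicGeometry.IsReduced (pullback s v) :=
    GeometricallyReduced.geometrically_isReduced (f := s) (K := K) v _ _ (IsPullback.of_hasPullback s v)
  exact isReduced_of_flat_preimmersion h

/-- A set with nowhere dense image stays so at the stalks. -/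
theorem interior_closure_image_stalk {Y : Scheme.{u}} [IsLocallyNoetherian Y] (y : Y)
    (hy : IsDomain (CAlg2.red (Y.presheaf.stalk y))) {S : Set (PrimeSpectrum (Y.presheaf.stalk y))}
    {R : Set Y} (hR : interior (closure R) = ∅) (hS : (Y.fromSpecStalk y).base '' S ⊆ R) :
    interior (closure S) = ∅ := by
  by_contra hne
  obtain ⟨p, hp⟩ := Set.nonempty_iff_ne_empty.mpr hne
  let η : PrimeSpectrum (Y.presheaf.stalk y) := ⟨_, (Ideal.Quotient.isDomain_iff_prime _).mp hy⟩
  have hη : η ∈ closure S := interior_subset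
    (((PrimeSpectrum.le_iff_specializes η p).1 (nilradical_le_prime p.asIdeal)).mem_open isOpen_interior hp)
  let ι := Y.fromSpecStalk y
  have hξ : ι η ∈ closure R :=
    closure_mono hS (image_closure_subset_closure_image (f := ι.base) ι.continuous (Set.mem_image_of_mem _ hη))
  have hξy : ι η ⤳ y := by
    have : ι η ∈ Set.range ι := ⟨η, rfl⟩
    rwa [Scheme.range_fromSpecStalk] at this
  by_cases h : ι η ∈ closure (closure {ι η})ᶜ
  · obtain ⟨u, hu, hu'⟩ := exists_specializes_of_mem_closure isClosed_closure.isOpen_compl h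
    obtain ⟨q, hq⟩ : u ∈ Set.range ι := by rw [Scheme.range_fromSpecStalk]; exact hu'.trans hξy
    rw [← hq] at hu' hu
    have h1 : (q : PrimeSpectrum (Y.presheaf.stalk y)) = η := by
      have h2 := (PrimeSpectrum.le_iff_specializes (q : PrimeSpectrum (Y.presheaf.stalk y)) η).2
        (ι.isEmbedding.isInducing.specializes_iff.mp hu')
      exact PrimeSpectrum.ext (le_antisymm h2 (nilradical_le_prime (q : PrimeSpectrum (Y.presheaf.stalk y)).asIdeal))
    exact hu (h1 ▸ subset_closure rfl)
  · rw [closure_compl, Set.notMem_compl_iff] at h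
    exact Set.notMem_empty _ (hR ▸ interior_mono (closure_minimal (Set.singleton_subset_iff.mpr hξ) isClosed_closure) h)

variable {X Y : Scheme.{u}} [IsLocallyNoetherian X] [IsLocallyNoetherian Y]

/-- A closed set whose complement is connected near every point has connected complement. -/
theorem isConnected_compl_of_stalks [ConnectedSpace X] {T : Set X} (hT : IsClosed T)
    (h : ∀ x : X, _root_.IsConnected ((X.fromSpecStalk x).base ⁻¹' Tᶜ)) : _root_.IsConnected Tᶜ := by
  have hspec : ∀ (x : X) (p : Spec (X.presheaf.stalk x)), X.fromSpecStalk x p ⤳ x := fun x p => by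
    have : X.fromSpecStalk x p ∈ Set.range (X.fromSpecStalk x) := ⟨p, rfl⟩
    rwa [Scheme.range_fromSpecStalk] at this
  have hdense : ∀ x : X, ∃ u ∈ Tᶜ, u ⤳ x := fun x => by
    obtain ⟨p, hp⟩ := (h x).nonempty
    exact ⟨_, hp, hspec x p⟩
  refine ⟨(hdense (Nonempty.some inferInstance)).imp fun u hu => hu.1, fun U₁ U₂ h₁ h₂ hcov hn₁ hn₂ => ?_⟩
  have hclo : (Set.univ : Set X) ⊆ closure (Tᶜ ∩ U₁) ∪ closure (Tᶜ ∩ U₂) := fun x _ => by
    obtain ⟨u, hu, hux⟩ := hdense x
    refine hux.mem_closed (isClosed_closure.union isClosed_closure) ?_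
    exact (hcov hu).imp (fun h => subset_closure ⟨hu, h⟩) fun h => subset_closure ⟨hu, h⟩
  obtain ⟨x, -, hx₁, hx₂⟩ := isPreconnected_closed_iff.mp isPreconnected_univ _ _ isClosed_closure isClosed_closure
    hclo (by simpa using hn₁.mono subset_closure) (by simpa using hn₂.mono subset_closure)
  obtain ⟨u₁, hu₁, hu₁x⟩ := exists_specializes_of_mem_closure (hT.isOpen_compl.inter h₁) hx₁
  obtain ⟨u₂, hu₂, hu₂x⟩ := exists_specializes_of_mem_closure (hT.isOpen_compl.inter h₂) hx₂
  obtain ⟨p₁, rfl⟩ : u₁ ∈ Set.range (X.fromSpecStalk x) := by rw [Scheme.range_fromSpecStalk]; exact hu₁x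
  obtain ⟨p₂, rfl⟩ : u₂ ∈ Set.range (X.fromSpecStalk x) := by rw [Scheme.range_fromSpecStalk]; exact hu₂x
  obtain ⟨p, hp, hp₁, hp₂⟩ := (h x).isPreconnected _ _ (h₁.preimage (X.fromSpecStalk x).continuous)
    (h₂.preimage (X.fromSpecStalk x).continuous) (fun p hp => hcov hp) ⟨p₁, hu₁.1, hu₁.2⟩ ⟨p₂, hu₂.1, hu₂.2⟩
  exact ⟨_, hp, hp₁, hp₂⟩

/-- Complements of closed sets with nowhere dense image over a geometrically unibranch base. -/
theorem isConnected_compl_scheme [ConnectedSpace X] (hY : ∀ y : Y, CAlg2.IsGeomUnibranch (Y.presheaf.stalk y))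
    (f : X ⟶ Y) [Flat f] [GeometricallyReduced f] (T : Set X) (hT : IsClosed T)
    (hT' : interior (closure (f.base '' T)) = ∅) : _root_.IsConnected Tᶜ := by
  refine isConnected_compl_of_stalks hT fun x => ?_
  letI := (f.stalkMap x).hom.toAlgebra
  haveI : Module.Flat (Y.presheaf.stalk (f x)) (X.presheaf.stalk x) := Flat.stalkMap f x
  haveI : IsLocalHom (algebraMap (Y.presheaf.stalk (f x)) (X.presheaf.stalk x)) :=
    inferInstanceAs (IsLocalHom (f.stalkMap x).hom)
  haveI : GeometricallyReduced (Spec.map (CommRingCat.ofHom (algebraMap (Y.presheaf.stalk (f x)) (X.presheaf.stalk x)))) :=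
    geometricallyReduced_stalkMap f x
  refine isConnected_compl (Y.presheaf.stalk (f x)) (X.presheaf.stalk x) (hY (f x))
    ((X.fromSpecStalk x).base ⁻¹' T) (interior_closure_image_stalk (f x) (hY (f x)).1.1 hT' ?_)
  rintro _ ⟨_, ⟨p, hp, rfl⟩, rfl⟩
  exact ⟨_, hp, congr(($(Scheme.SpecMap_stalkMap_fromSpecStalk f (x := x))).base p).symm⟩

end Groth.Agent.GUConn
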