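import Mathlib
import Groth.Prelude.Def_CAlg2
import Groth.Agent.S12124
import Groth.Agent.UnibranchEtale.Neighbourhood

/-!
Flat local algebras with geometrically reduced fibres over geometrically unibranch local rings have
connected generic fibre.
-/

set_option autoImplicit false
set_option linter.style.haveILetI false

universe u

open TensorProduct CategoryTheory AlgebraicGeometry IsLocalRing

namespace Groth.Agent.GUConn

theorem isReduced_tensor_field (A B L : Type u) [CommRing A] [CommRing B] [Algebra A B] [Field L] [Algebra A L]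
    [h : GeometricallyReduced (Spec.map (CommRingCat.ofHom (algebraMap A B)))] : IsReduced (B ⊗[A] L) := by
  have h1 : AlgebraicGeometry.IsReduced (Spec (CommRingCat.of (B ⊗[A] L))) :=
    h.geometrically_isReduced (K := L) (Spec.map (CommRingCat.ofHom (algebraMap A L)))
      ((pullbackSpecIso A B L).inv ≫ Limits.pullback.fst _ _) ((pullbackSpecIso A B L).inv ≫ Limits.pullback.snd _ _)
      ((IsPullback.of_hasPullback _ _).of_iso (pullbackSpecIso A B L) (Iso.refl _) (Iso.refl _) (Iso.refl _)
        (by simp) (by simp) (by simp) (by simp))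
  exact (affine_isReduced_iff (CommRingCat.of (B ⊗[A] L))).mp h1

/-- An idempotent of the generic fibre extends over a discrete valuation ring. -/
theorem idempotent_mem_dvr (A B V K : Type u) [CommRing A] [CommRing B] [Algebra A B] [Module.Flat A B]
    (hgr : ∀ (L : Type u) [Field L] [Algebra A L], IsReduced (B ⊗[A] L))
    [CommRing V] [IsDomain V] [IsDiscreteValuationRing V] [Algebra A V] [Field K] [Algebra A K] [Algebra V K]
    [IsScalarTower A V K] [IsFractionRing V K] (e : B ⊗[A] K) (he : IsIdempotentElem e) :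
    ∃ r : B ⊗[A] V, Algebra.TensorProduct.map (AlgHom.id A B) (IsScalarTower.toAlgHom A V K) r = e := by
  obtain ⟨t, ht⟩ := IsDiscreteValuationRing.exists_irreducible V
  set φ := Algebra.TensorProduct.map (AlgHom.id A B) (IsScalarTower.toAlgHom A V K) with hφ
  have hinj : Function.Injective φ :=
    Module.Flat.lTensor_preserves_injective_linearMap (IsScalarTower.toAlgHom A V K).toLinearMap
      (IsFractionRing.injective V K)
  set τ : B ⊗[A] V := 1 ⊗ₜ t with hτ
  have hτu : IsUnit (φ τ) := by
    have : φ τ = (Algebra.TensorProduct.includeRight : K →ₐ[A] B ⊗[A] K) (algebraMap V K t) := rfl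
    rw [this]
    exact (Ne.isUnit fun h => ht.ne_zero (IsFractionRing.injective V K (h.trans (map_zero _).symm))).map _
  have hclear : ∀ z : B ⊗[A] K, ∃ (n : ℕ) (r : B ⊗[A] V), φ τ ^ n * z = φ r := by
    intro z
    induction z using TensorProduct.induction_on with
    | zero => exact ⟨0, 0, by simp⟩
    | add z z' hz hz' =>
      obtain ⟨n, r, hr⟩ := hz
      obtain ⟨m, r', hr'⟩ := hz'
      exact ⟨n + m, τ ^ m * r + τ ^ n * r', by
        rw [map_add, map_mul, map_mul, map_pow, map_pow, ← hr, ← hr']; ring⟩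
    | tmul b k =>
      obtain ⟨a, d, hd, rfl⟩ := IsFractionRing.div_surjective (A := V) k
      obtain ⟨n, w, rfl⟩ := IsDiscreteValuationRing.eq_unit_mul_pow_irreducible (nonZeroDivisors.ne_zero hd) ht
      refine ⟨n, b ⊗ₜ (a * ↑w⁻¹), ?_⟩
      change ((1 : B) ⊗ₜ[A] algebraMap V K t) ^ n * _ = b ⊗ₜ[A] algebraMap V K (a * ↑w⁻¹)
      rw [Algebra.TensorProduct.tmul_pow, Algebra.TensorProduct.tmul_mul_tmul, one_pow, one_mul]
      congr 1
      have ht0 : algebraMap V K t ≠ 0 := fun h => ht.ne_zero (IsFractionRing.injective V K (h.trans (map_zero _).symm))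
      have hw0 : algebraMap V K (w : V) ≠ 0 := (w.isUnit.map _).ne_zero
      rw [map_mul, map_mul, map_pow, map_units_inv]
      field_simp
  obtain ⟨n, r, hr⟩ := hclear e
  induction n generalizing r with
  | zero => exact ⟨r, by simpa using hr.symm⟩
  | succ n ih =>
    have hsq : r * r = τ ^ (n + 1) * r := hinj (by
      rw [map_mul, map_mul, map_pow, ← hr]
      linear_combination (φ τ ^ (n + 1) * φ τ ^ (n + 1)) * he.eq)
    let g := Algebra.TensorProduct.map (AlgHom.id A B) (IsScalarTower.toAlgHom A V (ResidueField V))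
    haveI := hgr (ResidueField V)
    have hgτ : g τ = 0 := by
      change (1 : B) ⊗ₜ[A] residue V t = 0
      rw [(residue_eq_zero_iff t).mpr ((mem_maximalIdeal t).mpr ht.not_isUnit), TensorProduct.tmul_zero]
    have hgr : g r = 0 := IsReduced.eq_zero _ ⟨2, by
      rw [sq, ← map_mul, hsq, map_mul, map_pow, hgτ, zero_pow (Nat.succ_ne_zero n), zero_mul]⟩
    have hker : RingHom.ker g = Ideal.span {τ} := by
      rw [Algebra.TensorProduct.lTensor_ker _ (fun y => residue_surjective y)]
      rw [show RingHom.ker (IsScalarTower.toAlgHom A V (ResidueField V)) = Ideal.span {t} from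
        (ker_residue (R := V)).trans ht.maximalIdeal_eq, Ideal.map_span, Set.image_singleton]
      rfl
    obtain ⟨r', hr'⟩ := Ideal.mem_span_singleton'.mp (hker ▸ (RingHom.mem_ker (f := g)).mpr hgr)
    refine ih r' (hτu.mul_left_cancel ?_)
    rw [← mul_assoc, ← pow_succ', hr, ← hr', map_mul, mul_comm]

variable {A K : Type u} [CommRing A] [AddCommGroup K] [Module A K]

/-- Flatness preserves intersections. -/
theorem mem_range_inf (B : Type u) [AddCommGroup B] [Module A B] [Module.Flat A B] (P Q : Submodule A K)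
    (z : B ⊗[A] K) (hP : z ∈ LinearMap.range (P.subtype.lTensor B)) (hQ : z ∈ LinearMap.range (Q.subtype.lTensor B)) :
    z ∈ LinearMap.range ((P ⊓ Q).subtype.lTensor B) := by
  obtain ⟨w, rfl⟩ := hP
  let θ : P →ₗ[A] K ⧸ Q := Q.mkQ ∘ₗ P.subtype
  have hex : Function.Exact (Submodule.inclusion (inf_le_left : P ⊓ Q ≤ P)) θ := fun x => by
    change Submodule.Quotient.mk (x : K) = 0 ↔ _
    rw [Submodule.Quotient.mk_eq_zero]
    exact ⟨fun h => ⟨⟨x, x.2, h⟩, rfl⟩, fun ⟨y, hy⟩ => hy ▸ y.2.2⟩
  have hw : θ.lTensor B w = 0 := by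
    obtain ⟨v, hv⟩ := hQ
    rw [show θ = Q.mkQ ∘ₗ P.subtype from rfl, LinearMap.lTensor_comp, LinearMap.comp_apply, ← hv,
      ← LinearMap.comp_apply, ← LinearMap.lTensor_comp, show Q.mkQ ∘ₗ Q.subtype = 0 from
        LinearMap.ext fun x => (Submodule.Quotient.mk_eq_zero Q).mpr x.2, LinearMap.lTensor_zero, LinearMap.zero_apply]
  obtain ⟨y, hy⟩ := (Module.Flat.lTensor_exact B hex w).mp hw
  exact ⟨y, by rw [← hy, ← LinearMap.comp_apply, ← LinearMap.lTensor_comp]; rfl⟩

theorem mem_range_finset_inf (B : Type u) [AddCommGroup B] [Module A B] [Module.Flat A B] {ι : Type*} (s : Finset ι)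
    (W : Submodule A K) (P : ι → Submodule A K) (z : B ⊗[A] K) (hW : z ∈ LinearMap.range (W.subtype.lTensor B))
    (hP : ∀ i ∈ s, z ∈ LinearMap.range ((P i).subtype.lTensor B)) :
    z ∈ LinearMap.range ((W ⊓ s.inf P).subtype.lTensor B) := by
  classical
  induction s using Finset.induction_on with
  | empty => rwa [Finset.inf_empty, inf_top_eq]
  | insert a s ha ih =>
    rw [Finset.inf_insert, inf_left_comm]
    exact mem_range_inf B _ _ z (hP a (Finset.mem_insert_self a s))
      (ih fun i hi => hP i (Finset.mem_insert_of_mem hi))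

theorem mem_range_of_le (B : Type u) [AddCommGroup B] [Module A B] {P Q : Submodule A K} (h : P ≤ Q)
    {z : B ⊗[A] K} (hP : z ∈ LinearMap.range (P.subtype.lTensor B)) : z ∈ LinearMap.range (Q.subtype.lTensor B) := by
  obtain ⟨w, rfl⟩ := hP
  exact ⟨(Submodule.inclusion h).lTensor B w, by rw [← LinearMap.comp_apply, ← LinearMap.lTensor_comp]; rfl⟩

end Groth.Agent.GUConn
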