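import Groth.Agent.GUConn.Basic

/-!
Connectedness of the generic fibre over a geometrically unibranch point.
-/

set_option autoImplicit false
set_option linter.style.haveILetI false

universe u

open TensorProduct CategoryTheory AlgebraicGeometry IsLocalRing

namespace Groth.Agent.GUConn

variable (A B : Type u) [CommRing A] [IsLocalRing A] [CommRing B] [IsLocalRing B] [Algebra A B]
  [IsLocalHom (algebraMap A B)]

/-- `B ⊗ N` has at most one maximal ideal when `N` is local and integral with purely inseparable residue extension. -/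
theorem isLocalRing_tensor (N : Type u) [CommRing N] [IsLocalRing N] [Algebra A N] [Algebra.IsIntegral A N]
    [Nontrivial (B ⊗[A] N)]
    (hres : ∀ x : ResidueField N, ∃ (n : ℕ) (a : A), x ^ ringExpChar (ResidueField N) ^ n = algebraMap A (ResidueField N) a) :
    IsLocalRing (B ⊗[A] N) := by
  obtain ⟨M₀, hM₀⟩ := Ideal.exists_maximal (B ⊗[A] N)
  have key : ∀ M : Ideal (B ⊗[A] N), M.IsMaximal →
      ((maximalIdeal N).map (Algebra.TensorProduct.includeRight : N →ₐ[A] B ⊗[A] N)) ≤ M ∧
      (maximalIdeal B).map (algebraMap B (B ⊗[A] N)) ≤ M := fun M hM => by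
    haveI := hM
    have h1 : M.comap (algebraMap B (B ⊗[A] N)) = maximalIdeal B :=
      eq_maximalIdeal (Ideal.isMaximal_comap_of_isIntegral_of_isMaximal M)
    refine ⟨Ideal.map_le_iff_le_comap.mpr ?_, Ideal.map_le_iff_le_comap.mpr h1.ge⟩
    have h2 : M.comap (algebraMap A (B ⊗[A] N)) = maximalIdeal A := by
      rw [IsScalarTower.algebraMap_eq A B (B ⊗[A] N), ← Ideal.comap_comap, h1]
      exact maximalIdeal_comap (algebraMap A B)
    haveI : (M.comap (Algebra.TensorProduct.includeRight : N →ₐ[A] B ⊗[A] N).toRingHom).IsPrime := Ideal.IsPrime.comap _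
    have h3 : (M.comap (Algebra.TensorProduct.includeRight : N →ₐ[A] B ⊗[A] N).toRingHom).IsMaximal := by
      refine Ideal.isMaximal_of_isIntegral_of_isMaximal_comap (R := A) _ ?_
      rw [Ideal.comap_comap, AlgHom.toRingHom_eq_coe, AlgHom.comp_algebraMap, h2]
      exact maximalIdeal.isMaximal A
    exact (eq_maximalIdeal h3).ge
  refine IsLocalRing.of_unique_max_ideal ⟨M₀, hM₀, fun M hM => hM.eq_of_le hM₀.ne_top fun z hz => ?_⟩
  haveI := hM
  haveI := hM₀
  let J : Ideal (B ⊗[A] N) := (maximalIdeal N).map (Algebra.TensorProduct.includeRight : N →ₐ[A] B ⊗[A] N)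
  let π := Ideal.Quotient.mk J
  haveI : Nontrivial ((B ⊗[A] N) ⧸ J) :=
    Ideal.Quotient.nontrivial_iff.mpr fun h => hM.ne_top (top_le_iff.mp (h ▸ (key M hM).1))
  let ι : ResidueField N →+* (B ⊗[A] N) ⧸ J := Ideal.Quotient.lift (maximalIdeal N)
    (π.comp (Algebra.TensorProduct.includeRight : N →ₐ[A] B ⊗[A] N).toRingHom)
    fun x hx => Ideal.Quotient.eq_zero_iff_mem.mpr (Ideal.mem_map_of_mem _ hx)
  set q := ringExpChar (ResidueField N) with hq
  haveI : ExpChar ((B ⊗[A] N) ⧸ J) q := expChar_of_injective_ringHom ι.injective q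
  have hpow : ∀ w : B ⊗[A] N, ∃ (n : ℕ) (b : B), π w ^ q ^ n = π (algebraMap B (B ⊗[A] N) b) := by
    intro w
    induction w using TensorProduct.induction_on with
    | zero => exact ⟨0, 0, by simp⟩
    | add w w' hw hw' =>
      obtain ⟨n, b, hb⟩ := hw
      obtain ⟨m, b', hb'⟩ := hw'
      refine ⟨n + m, b ^ q ^ m + b' ^ q ^ n, ?_⟩
      rw [map_add, add_pow_expChar_pow, pow_add, pow_mul, hb, mul_comm, pow_mul, hb']
      simp only [map_add, map_pow]
    | tmul b x =>
      obtain ⟨n, a, ha⟩ := hres (residue N x)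
      refine ⟨n, b ^ q ^ n * algebraMap A B a, ?_⟩
      have h1 : b ⊗ₜ[A] x = algebraMap B (B ⊗[A] N) b * (1 ⊗ₜ x) := by
        rw [Algebra.TensorProduct.algebraMap_apply, Algebra.TensorProduct.tmul_mul_tmul, Algebra.algebraMap_self,
          RingHom.id_apply, mul_one, one_mul]
      have h2 : π (1 ⊗ₜ x) ^ q ^ n = π (algebraMap B (B ⊗[A] N) (algebraMap A B a)) := by
        change ι (residue N x) ^ q ^ n = _
        rw [← map_pow, ha, ← IsScalarTower.algebraMap_apply A B (B ⊗[A] N), IsScalarTower.algebraMap_apply A N (ResidueField N)]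
        exact congrArg π ((Algebra.TensorProduct.includeRight : N →ₐ[A] B ⊗[A] N).commutes a)
      rw [h1, map_mul, mul_pow, h2]
      simp only [map_mul, map_pow]
  obtain ⟨n, b, hb⟩ := hpow z
  have hmem : ∀ (M : Ideal (B ⊗[A] N)), M.IsMaximal → (z ∈ M ↔ b ∈ maximalIdeal B) := fun M hM => by
    have hJM : J ≤ M := (key M hM).1
    have h1 : z ^ q ^ n - algebraMap B (B ⊗[A] N) b ∈ M := hJM (Ideal.Quotient.eq.mp (by simpa [map_pow] using hb))
    have h2 : M.comap (algebraMap B (B ⊗[A] N)) = maximalIdeal B :=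
      haveI := hM; eq_maximalIdeal (Ideal.isMaximal_comap_of_isIntegral_of_isMaximal M)
    rw [← h2, Ideal.mem_comap]
    constructor
    · intro hz
      have h3 : z ^ q ^ n ∈ M := Ideal.pow_mem_of_mem M hz _ (Nat.pos_of_ne_zero (pow_ne_zero n (expChar_pos (ResidueField N) q).ne'))
      simpa using M.sub_mem h3 h1
    · intro hb'
      refine hM.isPrime.mem_of_pow_mem (q ^ n) ?_
      simpa using M.add_mem h1 hb'
  exact (hmem M₀ hM₀).mpr ((hmem M hM).mp hz)

/-- The generic fibre has no nontrivial idempotent. -/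
theorem idempotent_trivial_of_local (A B : Type u) [CommRing A] [IsLocalRing A] [IsNoetherianRing A] [CommRing B] [Algebra A B]
    [Module.Flat A B] (hgr : ∀ (L : Type u) [Field L] [Algebra A L], IsReduced (B ⊗[A] L)) (hA : CAlg2.IsUnibranch A)
    (hloc : IsLocalRing (B ⊗[A] CAlg2.normRed A)) (e : B ⊗[A] FractionRing (CAlg2.red A))
    (he : IsIdempotentElem e) : e = 0 ∨ e = 1 := by
  classical
  obtain ⟨hd, hl⟩ := hA
  haveI : IsDomain (CAlg2.red A) := hd
  haveI : IsLocalRing (CAlg2.normRed A) := hl
  haveI : IsLocalRing (CAlg2.red A) := .of_surjective' _ Ideal.Quotient.mk_surjective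
  let K := FractionRing (CAlg2.red A)
  let N := CAlg2.normRed A
  obtain ⟨C, hC, hdvr, hint, hfin⟩ := S12124.result (A := CAlg2.red A)
  obtain ⟨s, hs⟩ := TensorProduct.exists_finset e
  -- the finitely many places where `e` may have a pole
  let bad : Set (Ideal C) := ⋃ k ∈ (↑(s.image Prod.snd) : Set K), {p | p.IsPrime ∧ p.height = 1 ∧
    ¬ ∃ c : C, c ∉ p ∧ IsIntegral C ((c : K) * k)}
  have hbad : bad.Finite := (s.image Prod.snd).finite_toSet.biUnion fun k _ => hfin k
  choose V hVdvr hV using fun p : {p : Ideal C // p.IsPrime ∧ p.height = 1} =>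
    haveI := p.2.1; hdvr p.1 p.2.2
  let Vm : {p : Ideal C // p.IsPrime ∧ p.height = 1} → Submodule A K := fun p =>
    { carrier := {x | x ∈ V p}
      add_mem' := fun ha hb => (V p).add_mem _ _ ha hb
      zero_mem' := (V p).zero_mem
      smul_mem' := fun a x hx => by
        change a • x ∈ V p
        rw [Algebra.smul_def]
        refine (V p).mul_mem _ _ ((hV p _).mpr ⟨1, fun h => p.2.1.ne_top ((Ideal.eq_top_iff_one _).mpr h), ?_⟩) hx
        rw [OneMemClass.coe_one, one_mul, IsScalarTower.algebraMap_apply A (CAlg2.red A) K]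
        exact isIntegral_algebraMap.tower_top }
  let W : Submodule A K := ⨅ p : {p : {p : Ideal C // p.IsPrime ∧ p.height = 1} // p.1 ∉ bad}, Vm p.1
  have hsub : ∀ (P : Submodule A K), (∀ i ∈ s, i.2 ∈ P) → e ∈ LinearMap.range (P.subtype.lTensor B) := fun P hP => by
    rw [hs]
    exact Submodule.sum_mem _ fun i hi => ⟨i.1 ⊗ₜ[A] (⟨i.2, hP i hi⟩ : P), rfl⟩
  have hW : e ∈ LinearMap.range (W.subtype.lTensor B) := hsub W fun i hi => by
    rw [Submodule.mem_iInf]
    intro p
    refine (hV p.1 _).mpr (by_contra fun hno => p.2 (Set.mem_iUnion₂.mpr ⟨i.2, Finset.mem_image_of_mem _ hi, p.1.2.1, p.1.2.2, hno⟩))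
  have hVm : ∀ p, e ∈ LinearMap.range ((Vm p).subtype.lTensor B) := fun p => by
    haveI := hVdvr p
    letI : Algebra A (V p) := ((algebraMap A K).codRestrict (V p).toSubring fun a => by
      have := (Vm p).smul_mem a (show (1 : K) ∈ Vm p from (V p).one_mem)
      rwa [Algebra.smul_def, mul_one] at this).toAlgebra
    haveI : IsScalarTower A (V p) K := IsScalarTower.of_algebraMap_eq fun _ => rfl
    obtain ⟨r, hr⟩ := idempotent_mem_dvr A B (V p) K hgr e he
    let j : (V p) →ₗ[A] Vm p :=
      { toFun := fun x => ⟨(x : K), x.2⟩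
        map_add' := fun _ _ => rfl
        map_smul' := fun a x => Subtype.ext (by
          change ((a • x : V p) : K) = a • (x : K)
          rw [Algebra.smul_def, Algebra.smul_def]
          rfl) }
    refine ⟨j.lTensor B r, ?_⟩
    rw [← LinearMap.comp_apply, ← LinearMap.lTensor_comp, ← hr]
    rfl
  let badS : Finset {p : Ideal C // p.IsPrime ∧ p.height = 1} :=
    (hbad.preimage (f := Subtype.val) Subtype.val_injective.injOn).toFinset
  have hN : W ⊓ badS.inf Vm ≤ Subalgebra.toSubmodule ((integralClosure (CAlg2.red A) K).restrictScalars A) := by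
    intro x hx
    obtain ⟨hxW, hxB⟩ := hx
    rw [Subalgebra.mem_toSubmodule, Subalgebra.mem_restrictScalars, hint]
    intro p hp hp1
    refine (hV ⟨p, hp, hp1⟩ x).mp ?_
    by_cases hpb : p ∈ bad
    · exact (Finset.inf_le (f := Vm) (show ⟨p, hp, hp1⟩ ∈ badS by simpa [badS] using hpb)) hxB
    · exact (Submodule.mem_iInf _).mp hxW ⟨⟨p, hp, hp1⟩, hpb⟩
  obtain ⟨w, hw⟩ := mem_range_of_le B hN (mem_range_finset_inf B badS W Vm e hW fun p _ => hVm p)
  let νA : N →ₐ[A] K := (IsScalarTower.toAlgHom (CAlg2.red A) N K).restrictScalars A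
  let f := Algebra.TensorProduct.map (AlgHom.id A B) νA
  have hf : Function.Injective f :=
    Module.Flat.lTensor_preserves_injective_linearMap νA.toLinearMap Subtype.val_injective
  let j : Subalgebra.toSubmodule ((integralClosure (CAlg2.red A) K).restrictScalars A) →ₗ[A] N :=
    { toFun := fun x => ⟨(x : K), x.2⟩
      map_add' := fun _ _ => rfl
      map_smul' := fun _ _ => rfl }
  have hfe : f (j.lTensor B w) = e := by
    rw [← hw]
    change (νA.toLinearMap.lTensor B) (j.lTensor B w) = _
    rw [← LinearMap.comp_apply, ← LinearMap.lTensor_comp]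
    rfl
  have hidem : IsIdempotentElem (j.lTensor B w) := hf (by rw [map_mul, hfe, he.eq])
  haveI := hloc
  rcases IsLocalRing.isUnit_or_isUnit_one_sub_self (j.lTensor B w) with h | h
  · exact Or.inr (by rw [← hfe, (IsIdempotentElem.iff_eq_one_of_isUnit h).mp hidem, map_one])
  · refine Or.inl ?_
    have h0 : 1 - j.lTensor B w = 1 := (IsIdempotentElem.iff_eq_one_of_isUnit h).mp hidem.one_sub
    rw [← hfe, show j.lTensor B w = 0 from sub_eq_self.mp h0, map_zero]

variable [Module.Flat A B] [IsNoetherianRing A]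
  [GeometricallyReduced (Spec.map (CommRingCat.ofHom (algebraMap A B)))]

/-- The generic fibre has no nontrivial idempotent. -/
theorem idempotent_trivial (hA : CAlg2.IsGeomUnibranch A) (e : B ⊗[A] FractionRing (CAlg2.red A))
    (he : IsIdempotentElem e) : e = 0 ∨ e = 1 := by
  obtain ⟨⟨hd, hl⟩, hres⟩ := hA
  haveI : IsLocalRing (CAlg2.normRed A) := hl
  haveI : Algebra.IsIntegral A (CAlg2.normRed A) := by
    haveI : Algebra.IsIntegral A (CAlg2.red A) :=
      Algebra.IsIntegral.of_surjective (Ideal.Quotient.mkₐ A _) Ideal.Quotient.mk_surjective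
    exact Algebra.IsIntegral.trans (CAlg2.red A)
  haveI : Module.FaithfullyFlat A B := Module.FaithfullyFlat.of_flat_of_isLocalHom
  haveI : IsDomain (CAlg2.red A) := hd
  haveI : Nontrivial (B ⊗[A] CAlg2.normRed A) :=
    (TensorProduct.comm A (CAlg2.normRed A) B).toEquiv.symm.nontrivial
  exact idempotent_trivial_of_local A B (fun L _ _ => isReduced_tensor_field A B L) ⟨hd, hl⟩
    (isLocalRing_tensor A B (CAlg2.normRed A) fun x => by
      obtain ⟨n, a, ha⟩ := hres (maximalIdeal (CAlg2.normRed A)) x
      exact ⟨n, a, ha.symm⟩) e he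

/-- Complements of closed sets missing the generic fibre are connected. -/
theorem isConnected_compl (hA : CAlg2.IsGeomUnibranch A) (T : Set (PrimeSpectrum B))
    (hT' : interior (closure (PrimeSpectrum.comap (algebraMap A B) '' T)) = ∅) : _root_.IsConnected Tᶜ := by
  haveI hd : IsDomain (CAlg2.red A) := hA.1.1
  haveI hN : (nilradical A).IsPrime := (Ideal.Quotient.isDomain_iff_prime _).mp hd
  let K := FractionRing (CAlg2.red A)
  let η : PrimeSpectrum A := ⟨nilradical A, hN⟩
  let ι : B →+* B ⊗[A] K := algebraMap B (B ⊗[A] K)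
  haveI : Module.FaithfullyFlat A B := Module.FaithfullyFlat.of_flat_of_isLocalHom
  haveI : Nontrivial (B ⊗[A] K) := (TensorProduct.comm A K B).toEquiv.symm.nontrivial
  have hconn : _root_.IsConnected (Set.range (PrimeSpectrum.comap ι)) := by
    haveI : PreconnectedSpace (PrimeSpectrum (B ⊗[A] K)) := by
      rw [preconnectedSpace_iff_clopen]
      intro U hU
      obtain ⟨e, he, rfl⟩ := PrimeSpectrum.isClopen_iff.mp hU
      rcases idempotent_trivial A B hA e he with rfl | rfl
      · exact Or.inl (by simp)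
      · exact Or.inr (by simp)
    haveI : ConnectedSpace (PrimeSpectrum (B ⊗[A] K)) := { toNonempty := inferInstance }
    exact isConnected_range (PrimeSpectrum.continuous_comap ι)
  have hover : ∀ x, x ∈ Set.range (PrimeSpectrum.comap ι) → PrimeSpectrum.comap (algebraMap A B) x = η := by
    rintro _ ⟨y, rfl⟩
    refine PrimeSpectrum.ext ?_
    change (y.asIdeal.comap ι).comap (algebraMap A B) = nilradical A
    rw [Ideal.comap_comap, ← IsScalarTower.algebraMap_eq A B (B ⊗[A] K)]
    have h1 : algebraMap A (B ⊗[A] K) = (Algebra.TensorProduct.includeRight : K →ₐ[A] B ⊗[A] K).toRingHom.comp (algebraMap A K) :=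
      ((Algebra.TensorProduct.includeRight : K →ₐ[A] B ⊗[A] K).comp_algebraMap).symm
    haveI : (y.asIdeal.comap (Algebra.TensorProduct.includeRight : K →ₐ[A] B ⊗[A] K).toRingHom).IsPrime := Ideal.IsPrime.comap _
    rw [h1, ← Ideal.comap_comap, (Ideal.eq_bot_or_top (y.asIdeal.comap
      (Algebra.TensorProduct.includeRight : K →ₐ[A] B ⊗[A] K).toRingHom)).resolve_right (Ideal.IsPrime.ne_top inferInstance)]
    ext a
    rw [Ideal.mem_comap, Ideal.mem_bot, IsScalarTower.algebraMap_apply A (CAlg2.red A) K,
      map_eq_zero_iff _ (IsFractionRing.injective (CAlg2.red A) K)]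
    exact Ideal.Quotient.eq_zero_iff_mem
  refine hconn.subset_closure (fun x hx hxT => ?_) fun x hxT => ?_
  · have h1 : η ∈ PrimeSpectrum.comap (algebraMap A B) '' T := ⟨x, hxT, hover x hx⟩
    have h2 : closure (PrimeSpectrum.comap (algebraMap A B) '' T) = Set.univ := Set.univ_subset_iff.mp fun y _ =>
      ((PrimeSpectrum.le_iff_specializes η y).1 (nilradical_le_prime y.asIdeal)).mem_closed isClosed_closure
        (subset_closure h1)
    rw [h2, interior_univ] at hT'
    exact Set.univ_nonempty.ne_empty hT'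
  · obtain ⟨P, hP, hPx⟩ := Ideal.exists_minimalPrimes_le (bot_le : (⊥ : Ideal B) ≤ x.asIdeal)
    haveI := hP.1.1
    have hmin : P.comap (algebraMap A B) = nilradical A := by
      have h1 := UnibranchEtale.comap_mem_minimalPrimes (C := A) hP
      refine le_antisymm (h1.2 ⟨hN, bot_le⟩ ?_) (nilradical_le_prime _)
      exact nilradical_le_prime _
    haveI : P.LiesOver η.asIdeal := ⟨hmin.symm⟩
    refine (((PrimeSpectrum.le_iff_specializes ⟨P, hP.1.1⟩ x).1 hPx).mem_closed isClosed_closure (subset_closure ?_))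
    -- a point of the generic fibre over `P`
    haveI : Nontrivial (P.ResidueField ⊗[A] K) := by
      haveI : IsScalarTower A (CAlg2.red A) K := inferInstance
      letI : Algebra (CAlg2.red A) P.ResidueField := (Ideal.Quotient.lift (nilradical A) (algebraMap A P.ResidueField)
        fun a ha => by
          rw [IsScalarTower.algebraMap_apply A B P.ResidueField, Ideal.algebraMap_residueField_eq_zero, ← Ideal.mem_comap, hmin]
          exact ha).toAlgebra
      haveI : IsScalarTower A (CAlg2.red A) P.ResidueField := IsScalarTower.of_algebraMap_eq fun _ => rfl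
      haveI : FaithfulSMul (CAlg2.red A) P.ResidueField := by
        rw [faithfulSMul_iff_algebraMap_injective, injective_iff_map_eq_zero]
        intro a ha
        obtain ⟨a, rfl⟩ := Ideal.Quotient.mk_surjective a
        change algebraMap A P.ResidueField a = 0 at ha
        rw [IsScalarTower.algebraMap_apply A B P.ResidueField, Ideal.algebraMap_residueField_eq_zero, ← Ideal.mem_comap, hmin] at ha
        exact Ideal.Quotient.eq_zero_iff_mem.mpr ha
      letI : Algebra K P.ResidueField := FractionRing.liftAlgebra _ _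
      haveI : IsScalarTower A K P.ResidueField := IsScalarTower.of_algebraMap_eq fun a => by
        rw [IsScalarTower.algebraMap_apply A (CAlg2.red A) P.ResidueField, IsScalarTower.algebraMap_apply (CAlg2.red A) K P.ResidueField, ← IsScalarTower.algebraMap_apply A (CAlg2.red A) K]
      exact (Algebra.TensorProduct.lift (AlgHom.id A P.ResidueField) (IsScalarTower.toAlgHom A K P.ResidueField)
        fun _ _ => Commute.all _ _).toRingHom.domain_nontrivial
    obtain ⟨z⟩ : Nonempty (PrimeSpectrum (P.ResidueField ⊗[A] K)) := inferInstance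
    let g := Algebra.TensorProduct.map (IsScalarTower.toAlgHom A B P.ResidueField) (AlgHom.id A K)
    refine ⟨PrimeSpectrum.comap g.toRingHom z, PrimeSpectrum.ext ?_⟩
    change (z.asIdeal.comap g.toRingHom).comap ι = P
    have h2 : g.toRingHom.comp ι = (algebraMap P.ResidueField (P.ResidueField ⊗[A] K)).comp (algebraMap B P.ResidueField) :=
      RingHom.ext fun b => by simp [g, ι]
    rw [Ideal.comap_comap, h2, ← Ideal.comap_comap, (Ideal.eq_bot_or_top _).resolve_right
      (Ideal.IsPrime.ne_top (Ideal.IsPrime.comap (K := z.asIdeal) (algebraMap P.ResidueField (P.ResidueField ⊗[A] K)))),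
      ← RingHom.ker_eq_comap_bot, Ideal.ker_algebraMap_residueField]

end Groth.Agent.GUConn
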